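import Cfsg.Agent.Lib.PLocal.DerivedLength.Action
import Cfsg.Agent.Lib.PLocal.PLengthBound.Main
import Cfsg.Agent.GenA.HallHigmanReduction

/-!
The `p`-length is at most the derived length of a Sylow `p`-subgroup for odd `p`.
-/

set_option linter.all false
set_option autoImplicit false

namespace Cfsg.Agent.PLocal.DerivedLength

open Subgroup Cfsg TheoremB PLengthBound
open Module (End finrank)
open scoped TensorProduct commutatorElement

universe u v

/-- A derived term of a subgroup, seen in the group. -/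
def term {G : Type u} [Group G] (P : Subgroup G) (i : ℕ) : Subgroup G := (derivedSeries P i).map P.subtype

theorem term_zero {G : Type u} [Group G] (P : Subgroup G) : term P 0 = P := by
  rw [term, derivedSeries_zero, ← MonoidHom.range_eq_map, range_subtype]

theorem term_succ {G : Type u} [Group G] (P : Subgroup G) (i : ℕ) : term P (i + 1) = ⁅term P i, term P i⁆ := by
  rw [term, derivedSeries_succ, map_commutator]; rfl

theorem term_map {G : Type u} [Group G] {H : Type v} [Group H] (π : G →* H) (P : Subgroup G) (i : ℕ) :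
    term (P.map π) i = (term P i).map π := by
  induction i with
  | zero => rw [term_zero, term_zero]
  | succ i ih => rw [term_succ, term_succ, ih, map_commutator]

theorem term_eq_bot {G : Type u} [Group G] (P : Subgroup G) (i : ℕ) : term P i = ⊥ ↔ derivedSeries P i = ⊥ :=
  map_eq_bot_iff_of_injective _ P.subtype_injective

theorem term_le {G : Type u} [Group G] (P : Subgroup G) (i : ℕ) : term P i ≤ P := map_subtype_le _

theorem conj_mem_term {G : Type u} [Group G] {P : Subgroup G} {i : ℕ} {x y : G} (hx : x ∈ P) (hy : y ∈ term P i) :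
    x * y * x⁻¹ ∈ term P i := by
  obtain ⟨y, hy, rfl⟩ := hy
  exact ⟨⟨x, hx⟩ * y * ⟨x, hx⟩⁻¹, Normal.conj_mem (derivedSeries_normal _ _) y hy _, rfl⟩

variable {p : ℕ} [hp : Fact p.Prime]

/-- Extension of scalars, keeping products. -/
theorem exists_closed_rep {H : Type u} [Group H] [Nontrivial H] {W : Type u} [AddCommGroup W] [Module (ZMod p) W]
    [Finite W] (σ : H →* End (ZMod p) W) (hσ : Function.Injective σ) :
    ∃ (V : Type u) (_ : AddCommGroup V) (_ : Module (AlgebraicClosure (ZMod p)) V)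
      (_ : FiniteDimensional (AlgebraicClosure (ZMod p)) V) (_ : Nontrivial V)
      (τ : H →* End (AlgebraicClosure (ZMod p)) V), Function.Injective τ ∧
        (∀ a b, (σ a - 1) * (σ b - 1) = 0 → (τ a - 1) * (τ b - 1) = 0) ∧
        ∀ a b, (σ a - 1) * ((σ b - 1) * (σ b - 1)) = 0 → (τ a - 1) * ((τ b - 1) * (τ b - 1)) = 0 := by
  haveI : Module.Finite (ZMod p) W := Module.Finite.of_finite
  let A := AlgebraicClosure (ZMod p)
  let B : End (ZMod p) W →ₐ[ZMod p] End A (A ⊗[ZMod p] W) := Module.End.baseChangeHom (ZMod p) A W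
  have hB : Function.Injective B := LinearMap.baseChangeHom_injective (ZMod p) W A
  let τ : H →* End A (A ⊗[ZMod p] W) := (B : End (ZMod p) W →* End A (A ⊗[ZMod p] W)).comp σ
  have hτ : Function.Injective τ := hB.comp hσ
  haveI : Nontrivial (A ⊗[ZMod p] W) := by
    by_contra h
    rw [not_nontrivial_iff_subsingleton] at h
    obtain ⟨a, b, hab⟩ := exists_pair_ne H
    exact hab (hτ (LinearMap.ext fun w => Subsingleton.elim _ _))
  refine ⟨A ⊗[ZMod p] W, inferInstance, inferInstance, inferInstance, inferInstance, τ, hτ, fun a b hs => ?_,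
    fun a b hs => ?_⟩
  · show (B (σ a) - 1) * (B (σ b) - 1) = 0
    rw [← map_one B, ← map_sub B, ← map_sub B, ← map_mul, hs, map_zero]
  · show (B (σ a) - 1) * ((B (σ b) - 1) * (B (σ b) - 1)) = 0
    rw [← map_one B, ← map_sub B, ← map_sub B, ← map_mul, ← map_mul, hs, map_zero]

/-- A faithful quotient: quadratic commutator subgroups are trivial. -/
theorem quadratic_trivial {H : Type u} [Group H] [Finite H] {F : Type v} [Field F] [CharP F p] [IsAlgClosed F]
    {V : Type u} [AddCommGroup V] [Module F V] [FiniteDimensional F V] [Nontrivial V]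
    (hp2 : p ≠ 2) {τ : H →* End F V} (hτ : Function.Injective τ) (hsol : IsPSolvable p H) (hO : pCore p H = ⊥)
    (P : Sylow p H) (B : Subgroup H) (hBP : B ≤ (P : Subgroup H))
    (hAA : ∀ a ∈ ⁅B, B⁆, ∀ a' ∈ ⁅B, B⁆, (τ a - 1) * (τ a' - 1) = 0)
    (hAB : ∀ a ∈ ⁅B, B⁆, ∀ b ∈ B, (τ a - 1) * ((τ b - 1) * (τ b - 1)) = 0) {a : H} (ha : a ∈ ⁅B, B⁆) : a = 1 := by
  have haB : a ∈ B := commutator_le_self B ha
  haveI : CharP (End F V) p := charP_of_injective_algebraMap (algebraMap F (End F V)).injective p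
  have hquad : (τ a - 1) ^ 2 = 0 := by rw [pow_two]; exact hAA a ha a ha
  have hap : a ^ p = 1 := hτ (by
    have h := sub_pow_char_of_commute p (Commute.one_right (τ a))
    rw [one_pow, pow_eq_zero_of_le hp.out.two_le hquad, eq_comm, sub_eq_zero] at h
    rw [map_pow, h, map_one])
  set K₀ := pPrimeCore p H with hK₀
  haveI : K₀.Normal := Cores.pPrimeCore_normal p
  have hcop : (Nat.card K₀).Coprime p := Cores.coprime_card_pPrimeCore
  have hpK : ¬ p ∣ Nat.card K₀ := fun hd => hp.out.not_dvd_one (hcop ▸ Nat.dvd_gcd hd dvd_rfl)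
  have hfix : ∀ (q : ℕ) [Fact q.Prime], p ≠ q → ∀ Q : Subgroup H, IsPGroup q Q →
      (∀ x ∈ (P : Subgroup H), Normalizes x Q) → ∀ g ∈ Q, Commute a g := by
    intro q hq hpq Q hQ hn g hg
    by_contra hc
    have hm : Moves τ Q (a ^ p ^ (1 - 1)) := ⟨g, hg, fun h1 => hc (hτ (by
      simp only [Nat.sub_self, pow_zero, pow_one] at h1
      rw [map_mul, map_mul]; exact h1.eq))⟩
    rcases bound hp hq hpq (Nat.card Q) (finrank F V) H V τ Q a 1 le_rfl le_rfl hQ le_rfl
      (by rw [pow_one]; exact hap) (hn a (hBP haB)) hm 2 hquad with h | ⟨n₀, m, hn₀, hn₀1, hm1, hqm, -, hle⟩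
    · rw [pow_one] at h
      have := hp.out.two_le
      omega
    obtain rfl : n₀ = 1 := by omega
    rw [Nat.sub_self, pow_zero, one_mul, pow_one] at hle
    rw [pow_one] at hqm
    obtain rfl : p = 3 := by have := hp.out.two_le; omega
    obtain rfl : q = 2 := ((Nat.prime_dvd_prime_iff_eq hq.out Nat.prime_two).mp
      ((dvd_pow_self q (by omega : m ≠ 0)).trans (dvd_of_eq hqm.symm)))
    exact hc (centralizes_two_group hτ B (P.2.to_le hBP) hAA hAB (Nat.card Q) Q le_rfl hQ
      (fun b hb => hn b (hBP hb)) a ha g hg)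
  set C := K₀ ⊓ centralizer ({a} : Set H) with hC
  have hCeq : C = K₀ := by
    refine Subgroup.eq_of_le_of_card_ge inf_le_left (Nat.le_of_dvd Nat.card_pos ?_)
    rw [← Nat.factorization_le_iff_dvd Nat.card_pos.ne' Nat.card_pos.ne']
    intro q
    by_cases hq : q.Prime
    · refine (hq.pow_dvd_iff_le_factorization Nat.card_pos.ne').mp ?_
      rcases eq_or_ne q p with rfl | hqp
      · rw [Nat.factorization_eq_zero_of_not_dvd hpK, pow_zero]
        exact one_dvd _
      haveI := Fact.mk hq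
      obtain ⟨Q, hQK, hQc, hQn⟩ := exists_normalized_sylow_group K₀ hpK (P : Subgroup H) P.2 q
      rw [← hQc]
      refine Subgroup.card_dvd_of_le fun g hg => ⟨hQK hg, Subgroup.mem_centralizer_singleton_iff.mpr ?_⟩
      exact (hfix q hqp.symm Q (IsPGroup.of_card hQc) hQn g hg).symm.eq
    · simp [Nat.factorization_eq_zero_of_not_prime _ hq]
  have haC : a ∈ centralizer (K₀ : Set H) := Subgroup.mem_centralizer_iff.mpr fun g hg => by
    have : g ∈ C := hCeq.symm ▸ hg
    exact Subgroup.mem_centralizer_singleton_iff.mp this.2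
  have h1 : a ∈ (P : Subgroup H) ⊓ K₀ := ⟨hBP haB, Offender.centralizer_pPrimeCore_le hO hsol haC⟩
  rwa [Cores.inf_eq_bot_of_isPGroup_of_coprime P.2 hcop, mem_bot] at h1

variable {M : Type u} [Group M] [Finite M]

/-- The last derived term of a Sylow subgroup lies in the `p`-core. -/
theorem last_term_le (hp2 : p ≠ 2) (hsol : IsPSolvable p M) (hO : pPrimeCore p M = ⊥) (P : Sylow p M) (d : ℕ)
    (hd : term (P : Subgroup M) (d + 1) = ⊥) : term (P : Subgroup M) d ≤ pCore p M := by
  set V := pCore p M with hV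
  obtain ⟨W, _, _, _, ρ, f, hker, hsurj, hequiv⟩ := exists_layer hsol hO
  replace hker : ρ.ker = V := hker
  have hVP : V ≤ (P : Subgroup M) := Cores.pCore_le_sylow P
  have hcomm : ∀ x ∈ term (P : Subgroup M) d, ∀ y ∈ term (P : Subgroup M) d, Commute x y := by
    intro x hx y hy
    have := commutator_mem_commutator hx hy
    rw [← term_succ, hd, mem_bot] at this
    exact commutatorElement_eq_one_iff_commute.mp this
  -- the image of a commutator
  have hstep : ∀ (g : M) (v : V) (h : g * v * g⁻¹ * (v : M)⁻¹ ∈ V),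
      (f ⟨_, h⟩).toAdd = (ρ g - 1) (f v).toAdd := by
    intro g v h
    have h1 : g * v * g⁻¹ ∈ V := Normal.conj_mem inferInstance _ v.2 g
    rw [show (⟨_, h⟩ : V) = ⟨_, h1⟩ * v⁻¹ from rfl, map_mul, map_inv, toAdd_mul, toAdd_inv,
      hequiv g v ⟨_, h1⟩ rfl, LinearMap.sub_apply, Module.End.one_apply, sub_eq_add_neg]
  have hfixed : ∀ (g : M) (v : V), Commute g (v : M) → (ρ g - 1) (f v).toAdd = 0 := by
    intro g v h
    rw [LinearMap.sub_apply, Module.End.one_apply, ← hequiv g v v (by rw [h.eq, mul_inv_cancel_right]), sub_self]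
  have hext : ∀ L : End (ZMod p) W, (∀ v : V, L (f v).toAdd = 0) → L = 0 := fun L h => LinearMap.ext fun w => by
    obtain ⟨v, hv⟩ := hsurj (Multiplicative.ofAdd w)
    have := h v
    rw [hv] at this
    exact this
  cases d with
  | zero =>
    intro a ha
    rw [← hker, MonoidHom.mem_ker, ← sub_eq_zero]
    refine hext _ fun v => hfixed a v (hcomm a ha v ?_)
    rw [term_zero]
    exact hVP v.2
  | succ e =>
  set B := term (P : Subgroup M) e with hB
  have hA : term (P : Subgroup M) (e + 1) = ⁅B, B⁆ := term_succ _ _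
  rw [hA] at hcomm ⊢
  have hAA : ∀ a ∈ ⁅B, B⁆, ∀ a' ∈ ⁅B, B⁆, (ρ a' - 1) * (ρ a - 1) = 0 := by
    intro a ha a' ha'
    refine hext _ fun v => ?_
    have hc : a * v * a⁻¹ * (v : M)⁻¹ ∈ V := mul_mem (Normal.conj_mem inferInstance _ v.2 a) (inv_mem v.2)
    have hcA : a * v * a⁻¹ * (v : M)⁻¹ ∈ ⁅B, B⁆ := by
      rw [← hA, show a * v * a⁻¹ * (v : M)⁻¹ = a * ((v : M) * a⁻¹ * (v : M)⁻¹) by group]
      exact mul_mem (hA ▸ ha) (conj_mem_term (hVP v.2) (inv_mem (hA ▸ ha)))
    rw [Module.End.mul_apply, ← hstep a v hc]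
    exact hfixed a' ⟨_, hc⟩ (hcomm a' ha' _ hcA)
  have hAB : ∀ a ∈ ⁅B, B⁆, ∀ b ∈ B, (ρ a - 1) * ((ρ b - 1) * (ρ b - 1)) = 0 := by
    intro a ha b hb
    refine hext _ fun v => ?_
    have hc1 : b * v * b⁻¹ * (v : M)⁻¹ ∈ V := mul_mem (Normal.conj_mem inferInstance _ v.2 b) (inv_mem v.2)
    have hc1B : b * v * b⁻¹ * (v : M)⁻¹ ∈ B := by
      rw [show b * v * b⁻¹ * (v : M)⁻¹ = b * ((v : M) * b⁻¹ * (v : M)⁻¹) by group]
      exact mul_mem hb (conj_mem_term (hVP v.2) (inv_mem hb))
    set c₁ : V := ⟨_, hc1⟩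
    have hc2 : b * c₁ * b⁻¹ * (c₁ : M)⁻¹ ∈ V := mul_mem (Normal.conj_mem inferInstance _ c₁.2 b) (inv_mem c₁.2)
    rw [Module.End.mul_apply, Module.End.mul_apply, ← hstep b v hc1, ← hstep b c₁ hc2]
    exact hfixed a ⟨_, hc2⟩ (hcomm a ha _ (commutator_mem_commutator hb hc1B))
  intro a ha
  by_contra hnot
  set π := QuotientGroup.mk' V with hπ
  let ρ₁ : M ⧸ V →* End (ZMod p) W := QuotientGroup.lift V ρ hker.ge
  have hρ₁ : Function.Injective ρ₁ := by
    rw [injective_iff_map_eq_one]
    intro x hx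
    obtain ⟨x, rfl⟩ := QuotientGroup.mk_surjective x
    exact (QuotientGroup.eq_one_iff x).mpr (hker ▸ MonoidHom.mem_ker.mpr hx)
  haveI : Nontrivial (M ⧸ V) := ⟨⟨π a, 1, fun h => hnot ((QuotientGroup.eq_one_iff a).mp h)⟩⟩
  obtain ⟨V', _, _, _, _, τ, hτ, htwo, hthree⟩ := exists_closed_rep ρ₁ hρ₁
  haveI : CharP (AlgebraicClosure (ZMod p)) p :=
    charP_of_injective_algebraMap (algebraMap (ZMod p) (AlgebraicClosure (ZMod p))).injective p
  refine hnot ((QuotientGroup.eq_one_iff a).mp (quadratic_trivial hp2 hτ (PSolvable.quotient hsol _)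
    Cores.pCore_quotient_pCore (P.mapSurjective (QuotientGroup.mk'_surjective V)) (B.map π) ?_ ?_ ?_
    (a := π a) (map_commutator B B π ▸ mem_map_of_mem π ha)))
  · rw [Sylow.coe_mapSurjective]
    exact map_mono (term_le _ _)
  · intro x hx y hy
    rw [← map_commutator] at hx hy
    obtain ⟨x, hx, rfl⟩ := hx
    obtain ⟨y, hy, rfl⟩ := hy
    exact htwo _ _ (hAA y hy x hx)
  · intro x hx y hy
    rw [← map_commutator] at hx
    obtain ⟨x, hx, rfl⟩ := hx
    obtain ⟨y, hy, rfl⟩ := hy
    exact hthree _ _ (hAB x hx y hy)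

/-- The `p`-length is bounded by the derived length. -/
theorem pLengthLE_of_derived (hp2 : p ≠ 2) : ∀ (d : ℕ) (G : Type u) [Group G] [Finite G], IsPSolvable p G →
    ∀ P : Sylow p G, term (P : Subgroup G) d = ⊥ → PLengthLE p d G := by
  intro d
  induction d with
  | zero =>
    intro G _ _ hG P hP
    exact eq_top_of_sylow_le P 0 (by rw [← term_zero (P : Subgroup G), hP]; exact bot_le)
  | succ d ih =>
    intro G _ _ hG P hP
    haveI : (pPrimeCore p G).Normal := Cores.pPrimeCore_normal p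
    refine GenA.HallHigmanReduction.pLengthLE_succ ?_
    set U := pPrimePCore p G with hU
    have hsU := QuotientGroup.mk'_surjective U
    have hs := QuotientGroup.mk'_surjective (pPrimeCore p G)
    set PM := P.mapSurjective hs with hPM
    have hle : term (P : Subgroup G) d ≤ U := by
      show term (P : Subgroup G) d ≤ (pCore p (G ⧸ pPrimeCore p G)).comap (QuotientGroup.mk' _)
      rw [← map_le_iff_le_comap, ← term_map, ← Sylow.coe_mapSurjective hs]
      refine last_term_le hp2 (PSolvable.quotient hG _) (Cores.pPrimeCore_quotient_self p) PM d ?_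
      rw [Sylow.coe_mapSurjective, term_map, hP, Subgroup.map_bot]
    refine ih (G ⧸ U) (PSolvable.quotient hG _) (P.mapSurjective hsU) ?_
    rw [Sylow.coe_mapSurjective, term_map, Subgroup.map_eq_bot_iff, QuotientGroup.ker_mk']
    exact hle

end Cfsg.Agent.PLocal.DerivedLength
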