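import Cfsg.Agent.Lib.PLocal.PLengthBound.Exception
import Cfsg.Agent.Lib.Coprime.PGroup
import Cfsg.Agent.Solvable.Basics

/-!
Commutators of a `3`-group of linear maps that act quadratically centralize every normalized `2`-group.
-/

set_option linter.all false
set_option autoImplicit false

namespace Cfsg.Agent.PLocal.DerivedLength

open Subgroup TheoremB PLengthBound
open Module (End finrank)
open scoped commutatorElement

universe u v w

variable {G : Type u} [Group G] [Finite G] {K : Type w} [Field K] [CharP K 3] {V : Type v} [AddCommGroup V]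
  [Module K V]

/-- The sum over the orbit of a quadratic element of order three. -/
theorem orbit_sum {R : Type*} [Ring R] (h3 : (3 : R) = 0) {N U : R} (hN : N * N = 0) :
    U + (1 + N) * U * (1 - N) + ((1 + N) * (1 + N)) * U * ((1 - N) * (1 - N)) = N * U * N := by
  have h1 : (1 + N) * (1 + N) = 1 + 2 * N := by
    calc (1 + N) * (1 + N) = 1 + 2 * N + N * N := by noncomm_ring
      _ = _ := by rw [hN, add_zero]
  have h2 : (1 - N) * (1 - N) = 1 - 2 * N := by
    calc (1 - N) * (1 - N) = 1 - 2 * N + N * N := by noncomm_ring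
      _ = _ := by rw [hN, add_zero]
  rw [h1, h2]
  have key : U + (1 + N) * U * (1 - N) + (1 + 2 * N) * U * (1 - 2 * N) =
      (3 : R) * (U + N * U - U * N - 2 * (N * U * N)) + N * U * N := by noncomm_ring
  rw [key, h3, zero_mul, zero_add]

variable [FiniteDimensional K V] [IsAlgClosed K] {ρ : G →* End K V}

set_option maxHeartbeats 1600000 in
/-- The commutator subgroup of `B` centralizes `T`. -/
theorem centralizes_two_group [Fact (Nat.Prime 3)] (hρ : Function.Injective ρ) (B : Subgroup G) (hB : IsPGroup 3 B)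
    (hAA : ∀ a ∈ ⁅B, B⁆, ∀ a' ∈ ⁅B, B⁆, (ρ a - 1) * (ρ a' - 1) = 0)
    (hAB : ∀ a ∈ ⁅B, B⁆, ∀ b ∈ B, (ρ a - 1) * ((ρ b - 1) * (ρ b - 1)) = 0) :
    ∀ (n : ℕ) (T : Subgroup G), Nat.card T ≤ n → IsPGroup 2 T → (∀ b ∈ B, Normalizes b T) →
      ∀ a ∈ ⁅B, B⁆, ∀ t ∈ T, Commute a t := by
  classical
  haveI : Fact (Nat.Prime 2) := ⟨Nat.prime_two⟩
  intro n
  induction n using Nat.strong_induction_on with
  | _ n IH =>
  intro T hn hT hnorm a₀ ha₀ t₀ ht₀
  by_contra hmove
  set A := ⁅B, B⁆ with hA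
  have hAleB : A ≤ B := commutator_le_self B
  have hAnB : ∀ b ∈ B, ∀ a ∈ A, b * a * b⁻¹ ∈ A := by
    intro b hb a ha
    rw [hA] at ha ⊢
    have hmap : ⁅B, B⁆.map (MulAut.conj b).toMonoidHom ≤ ⁅B, B⁆ := by
      rw [map_commutator]
      have : B.map (MulAut.conj b).toMonoidHom ≤ B := by
        rintro _ ⟨y, hy, rfl⟩
        exact mul_mem (mul_mem hb hy) (inv_mem hb)
      exact commutator_mono this this
    exact hmap ⟨a, ha, rfl⟩
  have hVne : Nontrivial V := by
    by_contra h
    rw [not_nontrivial_iff_subsingleton] at h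
    exact hmove (hρ (LinearMap.ext fun v => Subsingleton.elim _ _))
  haveI := hVne
  haveI : CharP (End K V) 3 := charP_of_injective_algebraMap (algebraMap K (End K V)).injective 3
  have hA3 : ∀ a ∈ A, a ^ 3 = 1 := fun a ha => hρ (by
    have h := sub_pow_char_of_commute 3 (Commute.one_right (ρ a))
    rw [one_pow, pow_succ, pow_two, hAA a ha a ha, zero_mul, eq_comm, sub_eq_zero] at h
    rw [map_pow, h, map_one])
  have hAc : ∀ a ∈ A, ∀ a' ∈ A, Commute a a' := by
    intro a ha a' ha'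
    refine hρ ?_
    rw [map_mul, map_mul]
    have h1 := hAA a ha a' ha'
    have h2 := hAA a' ha' a ha
    rw [mul_sub, sub_mul, one_mul, mul_one, sub_sub, sub_eq_zero] at h1 h2
    rw [h1, h2]
    abel
  have h2ne : (2 : K) ≠ 0 := by
    intro h
    have h' : ((2 : ℕ) : K) = 0 := by exact_mod_cast h
    rw [CharP.cast_eq_zero_iff K 3] at h'
    omega
  have hcardne : ∀ (H : Subgroup G), H ≤ T → (Nat.card H : K) ≠ 0 := by
    intro H hH
    obtain ⟨m, hm⟩ := (hT.to_le hH).exists_card_eq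
    rw [hm, Nat.cast_pow]
    exact pow_ne_zero m (by exact_mod_cast h2ne)
  -- smaller subgroups are centralized
  have hsmall : ∀ R : Subgroup G, R ≤ T → R ≠ T → (∀ b ∈ B, Normalizes b R) → ∀ a ∈ A, ∀ t ∈ R, Commute a t :=
    fun R hR hne hRn => IH (Nat.card R) (lt_of_lt_of_le (lt_of_le_of_ne (card_le_of_le hR)
      fun h => hne (eq_of_le_of_card_ge hR h.ge)) hn) R le_rfl (hT.to_le hR) hRn
  -- `T` is generated by commutators
  set R := closure {x | ∃ a ∈ A, ∃ t ∈ T, x = ⁅a, t⁆} with hR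
  have hgenT : ∀ a ∈ A, ∀ t ∈ T, ⁅a, t⁆ ∈ T := fun a ha t ht => mul_mem (hnorm a (hAleB ha) t ht) (inv_mem ht)
  have hRT : R ≤ T := by
    rw [hR, closure_le]
    rintro _ ⟨a, ha, t, ht, rfl⟩
    exact hgenT a ha t ht
  have hRn : ∀ b ∈ B, Normalizes b R := by
    intro b hb g hg
    induction hg using Subgroup.closure_induction with
    | mem g hg =>
      obtain ⟨a, ha, t, ht, rfl⟩ := hg
      refine subset_closure ⟨b * a * b⁻¹, hAnB b hb a ha, b * t * b⁻¹, hnorm b hb t ht, ?_⟩
      simp only [commutatorElement_def]; group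
    | one => simpa using one_mem R
    | mul c d _ _ hc hd => rw [show b * (c * d) * b⁻¹ = b * c * b⁻¹ * (b * d * b⁻¹) by group]; exact mul_mem hc hd
    | inv c _ hc => rw [show b * c⁻¹ * b⁻¹ = (b * c * b⁻¹)⁻¹ by group]; exact inv_mem hc
  have hRT' : R = T := by
    by_contra hne
    set g := ⁅a₀, t₀⁆ with hg
    have hc : Commute a₀ g := hsmall R hRT hne hRn a₀ ha₀ g (subset_closure ⟨a₀, ha₀, t₀, ht₀, rfl⟩)
    have e1 : a₀ * t₀ * a₀⁻¹ = g * t₀ := by rw [hg, commutatorElement_def, inv_mul_cancel_right]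
    have hiter : ∀ i : ℕ, a₀ ^ i * t₀ * (a₀ ^ i)⁻¹ = g ^ i * t₀ := by
      intro i
      induction i with
      | zero => simp
      | succ i ih =>
        calc a₀ ^ (i + 1) * t₀ * (a₀ ^ (i + 1))⁻¹ = a₀ * (a₀ ^ i * t₀ * (a₀ ^ i)⁻¹) * a₀⁻¹ := by rw [pow_succ']; group
          _ = (a₀ * g ^ i * a₀⁻¹) * (a₀ * t₀ * a₀⁻¹) := by rw [ih]; group
          _ = g ^ (i + 1) * t₀ := by rw [(hc.pow_right i).eq, mul_inv_cancel_right, e1, ← mul_assoc, ← pow_succ]
    have hg3 : g ^ 3 = 1 := by
      have := hiter 3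
      rw [hA3 a₀ ha₀] at this
      simpa using this.symm
    obtain ⟨k, hk⟩ := hT ⟨g, hgenT a₀ ha₀ t₀ ht₀⟩
    have hgk : g ^ 2 ^ k = 1 := by simpa using congrArg Subtype.val hk
    have hg1 : g = 1 := by
      have h := pow_gcd_eq_one.mpr ⟨hg3, hgk⟩
      rwa [show Nat.gcd 3 (2 ^ k) = 1 from Nat.Coprime.pow_right k (by decide), pow_one] at h
    exact hmove (commutatorElement_eq_one_iff_commute.mp hg1)
  -- the Frattini subgroup is central
  have hinv : ∀ R₁ : Subgroup T, R₁.Characteristic → ∀ x : G, Normalizes x T → Normalizes x (R₁.map T.subtype) := by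
    intro R₁ hR₁ x hx
    rintro _ ⟨d, hd, rfl⟩
    let cj : T →* T := MonoidHom.mk' (fun d => ⟨x * d * x⁻¹, hx d d.2⟩) fun a b => Subtype.ext (by
      show x * ((a : G) * b) * x⁻¹ = x * a * x⁻¹ * (x * b * x⁻¹)
      group)
    let cje : T ≃* T := MulEquiv.ofBijective cj (Finite.injective_iff_bijective.mp fun a b h => by
      simpa [cj] using congrArg Subtype.val h)
    have h1 := (characteristic_iff_map_eq.mp hR₁ cje).le ⟨d, hd, rfl⟩
    exact ⟨cje d, h1, rfl⟩
  haveI := hT.isNilpotent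
  haveI : Nontrivial T := by
    refine (nontrivial_iff_ne_bot T).mpr ?_
    rintro rfl
    exact hmove (by rw [mem_bot.mp ht₀]; exact Commute.one_right a₀)
  set F := (frattini T).map T.subtype with hF
  have hFne : F ≠ T := by
    intro h1
    have h2 : frattini T = ⊤ := by
      refine map_injective T.subtype_injective ?_
      rw [← hF, h1, ← MonoidHom.range_eq_map, range_subtype]
    obtain ⟨M, hM⟩ : ∃ M : Subgroup T, IsCoatom M :=
      ((eq_top_or_exists_le_coatom (⊥ : Subgroup T)).resolve_left bot_ne_top).imp fun _ h => h.1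
    exact hM.1 (top_le_iff.mp (h2 ▸ frattini_le_coatom hM))
  have hFA : ∀ a ∈ A, ∀ d ∈ F, Commute a d :=
    hsmall F (map_subtype_le _) hFne fun b hb => hinv _ inferInstance b (hnorm b hb)
  have hFc : ∀ d ∈ F, ∀ t ∈ T, Commute d t := by
    intro d hd t ht
    rw [← hRT'] at ht
    induction ht using Subgroup.closure_induction with
    | mem x hx =>
      obtain ⟨a, ha, t, ht, rfl⟩ := hx
      have hd' : t⁻¹ * d * t ∈ F := by
        have h := hinv (frattini T) inferInstance t⁻¹ (fun s hs => mul_mem (mul_mem (inv_mem ht) hs) (inv_mem (inv_mem ht))) d hd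
        rwa [inv_inv] at h
      have c1 := hFA a ha d hd
      have c2 := hFA a ha _ hd'
      refine Commute.symm ?_
      show ⁅a, t⁆ * d = d * ⁅a, t⁆
      rw [commutatorElement_def]
      calc a * t * a⁻¹ * t⁻¹ * d = a * t * (a⁻¹ * (t⁻¹ * d * t)) * t⁻¹ := by group
        _ = a * t * ((t⁻¹ * d * t) * a⁻¹) * t⁻¹ := by rw [(c2.inv_left).eq]
        _ = a * d * t * a⁻¹ * t⁻¹ := by group
        _ = _ := by rw [c1.eq]; group
    | one => exact Commute.one_right d
    | mul x y _ _ hx hy => exact hx.mul_right hy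
    | inv x _ hx => exact hx.inv_right
  have hbrF : ∀ a ∈ T, ∀ b ∈ T, ⁅a, b⁆ ∈ F := fun a ha b hb =>
    ⟨⁅(⟨a, ha⟩ : T), ⟨b, hb⟩⁆, Coprime.commutator_le_frattini T (commutator_mem_commutator (mem_top _) (mem_top _)), rfl⟩
  have hsqF : ∀ a ∈ T, a ^ 2 ∈ F := fun a ha => ⟨(⟨a, ha⟩ : T) ^ 2, Solvable.Basics.pow_mem_frattini hT _, rfl⟩
  have hbrmul : ∀ x ∈ T, ∀ y ∈ T, ∀ t ∈ T, ⁅x * y, t⁆ = ⁅x, t⁆ * ⁅y, t⁆ := by
    intro x hx y hy t ht
    have h1 := hFc _ (hbrF y hy t ht) x hx
    have h2 := hFc _ (hbrF y hy t ht) _ (br_mem hx ht)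
    calc ⁅x * y, t⁆ = x * ⁅y, t⁆ * x⁻¹ * ⁅x, t⁆ := by simp only [commutatorElement_def]; group
      _ = ⁅y, t⁆ * ⁅x, t⁆ := by rw [← h1.eq, mul_inv_cancel_right]
      _ = _ := h2.eq
  -- the centre
  set Z := T ⊓ centralizer (T : Set G) with hZ
  have hZn : ∀ x : G, Normalizes x T → Normalizes x⁻¹ T → Normalizes x Z := by
    intro x hx hx' d hd
    refine ⟨hx d hd.1, mem_centralizer_iff.mpr fun s hs => ?_⟩
    have h1 := mem_centralizer_iff.mp hd.2 _ (hx' s hs)
    rw [inv_inv] at h1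
    calc s * (x * d * x⁻¹) = x * ((x⁻¹ * s * x) * d) * x⁻¹ := by group
      _ = x * (d * (x⁻¹ * s * x)) * x⁻¹ := by rw [h1]
      _ = _ := by group
  have hnab : Z ≠ T := by
    intro h
    have hab : ∀ x ∈ T, ∀ y ∈ T, Commute x y := fun x hx y hy => (mem_centralizer_iff.mp (h.symm ▸ hy : y ∈ Z).2 x hx)
    have hm : Moves ρ T (a₀ ^ 3 ^ (1 - 1)) := ⟨t₀, ht₀, fun h1 => hmove (hρ (by
      simp only [Nat.sub_self, pow_zero, pow_one] at h1
      rw [map_mul, map_mul]; exact h1.eq))⟩
    rcases bound (p := 3) (q := 2) inferInstance inferInstance (by decide) (Nat.card T) (finrank K V) G V ρ T a₀ 1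
        le_rfl le_rfl hT le_rfl (by rw [pow_one]; exact hA3 a₀ ha₀) (hnorm a₀ (hAleB ha₀)) hm 2
        (by rw [pow_two]; exact hAA a₀ ha₀ a₀ ha₀) with h' | ⟨-, -, -, -, -, -, hna, -⟩
    · norm_num at h'
    · obtain ⟨x, hx, y, hy, hxy⟩ := hna
      exact hxy ((hab x hx y hy).map ρ)
  have hZA : ∀ a ∈ A, ∀ z ∈ Z, Commute a z :=
    hsmall Z inf_le_left hnab fun b hb => hZn b (hnorm b hb) (hnorm b⁻¹ (inv_mem hb))
  obtain ⟨a₁, ha₁, t₂, ht₂, hg⟩ : ∃ a ∈ A, ∃ t ∈ T, ⁅a, t⁆ ∉ Z := by
    by_contra hc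
    push Not at hc
    refine hnab (le_antisymm inf_le_left ?_)
    conv_lhs => rw [← hRT']
    rw [hR, closure_le]
    rintro _ ⟨a, ha, t, ht, rfl⟩
    exact hc a ha t ht
  set g := ⁅a₁, t₂⁆ with hgdef
  have hgT : g ∈ T := hgenT a₁ ha₁ t₂ ht₂
  obtain ⟨t₁, ht₁, hd⟩ : ∃ t ∈ T, ⁅g, t⁆ ≠ 1 := by
    by_contra hc
    push Not at hc
    exact hg ⟨hgT, mem_centralizer_iff.mpr fun s hs => (commutatorElement_eq_one_iff_commute.mp (hc s hs)).symm.eq⟩
  set d := ⁅g, t₁⁆ with hddef
  have hFZ : ∀ x ∈ F, x ∈ Z := fun x hx =>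
    ⟨map_subtype_le _ hx, mem_centralizer_iff.mpr fun s hs => (hFc x hx s hs).symm.eq⟩
  have hdd : ρ d * ρ d = 1 := by
    rw [← map_mul, hddef, ← hbrmul g hgT g hgT t₁ ht₁, ← pow_two,
      commutatorElement_eq_one_iff_commute.mpr (hFc _ (hsqF g hgT) t₁ ht₁), map_one]
  set X := LinearMap.range (ρ d - 1) with hX
  have hX0 : X ≠ ⊥ := fun h0 => hd (hρ (by
    rw [map_one, ← sub_eq_zero]; exact LinearMap.range_eq_bot.mp h0))
  have hXinv : ∀ s ∈ T, ∀ w ∈ X, ρ s w ∈ X := by
    rintro s hs _ ⟨v, rfl⟩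
    refine ⟨ρ s v, ?_⟩
    simp only [LinearMap.sub_apply, Module.End.one_apply, map_sub]
    rw [← Module.End.mul_apply, ← map_mul, (hFc d (hbrF g hgT t₁ ht₁) s hs).eq, map_mul, Module.End.mul_apply]
  obtain ⟨U, ⟨hU0, hUX, hUT⟩, hUmin⟩ := (wellFounded_lt (α := Submodule K V)).has_min
    {U : Submodule K V | U ≠ ⊥ ∧ U ≤ X ∧ ∀ s ∈ T, ∀ w ∈ U, ρ s w ∈ U} ⟨X, hX0, le_rfl, hXinv⟩
  haveI : Nontrivial U := Submodule.nontrivial_iff_ne_bot.mpr hU0
  have hirr : QIrred (subAct ρ T U hUT) ⊤ := by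
    intro W hW
    by_cases h0 : W = ⊥
    · exact Or.inl h0
    refine Or.inr (Submodule.map_injective_of_injective U.injective_subtype ?_)
    rw [Submodule.map_subtype_top]
    refine eq_of_le_of_not_lt (Submodule.map_subtype_le U W) (hUmin _ ⟨fun h1 => h0 ?_,
      (Submodule.map_subtype_le U W).trans hUX, fun s hs w hw => ?_⟩)
    · exact Submodule.map_injective_of_injective U.injective_subtype (h1.trans (Submodule.map_bot _).symm)
    · obtain ⟨w', hw', rfl⟩ := hw
      exact ⟨subAct ρ T U hUT ⟨s, hs⟩ w', hW _ trivial w' hw', rfl⟩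
  obtain ⟨u₀, hu₀⟩ := exists_ne (0 : U)
  have hdU : ρ d (u₀ : V) ≠ (u₀ : V) := by
    intro h2
    obtain ⟨v, hv⟩ := hUX u₀.2
    have h1 : ρ d (u₀ : V) = -(u₀ : V) := by
      rw [← hv]
      simp only [LinearMap.sub_apply, Module.End.one_apply, map_sub, ← Module.End.mul_apply, hdd, neg_sub]
    rw [h2, eq_neg_iff_add_eq_zero, ← two_smul K, smul_eq_zero] at h1
    exact h1.elim h2ne fun h0 => hu₀ (Subtype.ext h0)
  -- the central character
  let χ : G → K := scal ρ U
  have hχs : ∀ z ∈ Z, ∀ w ∈ U, ρ z w = χ z • w := fun z hz =>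
    (isScal_of_comm hUT hirr hz.1 fun s hs w _ => by
      rw [← Module.End.mul_apply, ← map_mul, ← mem_centralizer_iff.mp hz.2 s hs, map_mul, Module.End.mul_apply]).spec
  have hχ1 : χ 1 = 1 := scal_eq fun w _ => by simp
  have hχmul : ∀ z ∈ Z, ∀ z' ∈ Z, χ (z * z') = χ z * χ z' := fun z hz z' hz' => scal_eq fun w hw => by
    rw [map_mul, Module.End.mul_apply, hχs z' hz' w hw, map_smul, hχs z hz w hw, smul_smul, mul_comm]
  have hχne : ∀ z ∈ Z, χ z ≠ 0 := fun z hz h0 => by
    have h1 := hχmul z hz z⁻¹ (inv_mem hz)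
    rw [mul_inv_cancel, hχ1, h0, zero_mul] at h1
    exact one_ne_zero h1
  let W : Submodule K V := ⨅ z : Z, LinearMap.ker (ρ (z : G) - χ (z : G) • 1)
  have hWmem : ∀ v, v ∈ W ↔ ∀ z ∈ Z, ρ z v = χ z • v := fun v => by
    simp [W, Submodule.mem_iInf, sub_eq_zero]
  have hUW : U ≤ W := fun w hw => (hWmem w).mpr fun z hz => hχs z hz w hw
  have hWT : ∀ s ∈ T, ∀ v ∈ W, ρ s v ∈ W := fun s hs v hv => (hWmem _).mpr fun z hz => by
    rw [← Module.End.mul_apply, ← map_mul, ← mem_centralizer_iff.mp hz.2 s hs, map_mul, Module.End.mul_apply,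
      (hWmem v).mp hv z hz, map_smul]
  have hWA : ∀ a ∈ A, ∀ v ∈ W, ρ a v ∈ W := fun a ha v hv => (hWmem _).mpr fun z hz => by
    rw [← Module.End.mul_apply, ← map_mul, ← (hZA a ha z hz).eq, map_mul, Module.End.mul_apply,
      (hWmem v).mp hv z hz, map_smul]
  have hbrZ : ∀ x ∈ T, ∀ y ∈ T, ⁅x, y⁆ ∈ Z := fun x hx y hy => hFZ _ (hbrF x hx y hy)
  -- a central element acting differently
  by_cases hfixχ : ∀ b ∈ B, ∀ z ∈ Z, χ (b⁻¹ * z * b) = χ z
  swap
  · simp only [not_forall] at hfixχ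
    obtain ⟨b, hb, z, hz, hne⟩ := hfixχ
    haveI := Fintype.ofFinite Z
    set f : End K V := ∑ z : Z, (χ (z : G))⁻¹ • ρ (z : G) with hf
    have hfshift : ∀ z' ∈ Z, ∀ v, f (ρ z' v) = χ z' • f v := by
      intro z' hz' v
      simp only [hf, LinearMap.sum_apply, Finset.smul_sum, LinearMap.smul_apply]
      refine Fintype.sum_equiv (Equiv.mulRight (⟨z', hz'⟩ : Z)) _ _ fun y => ?_
      show (χ (y : G))⁻¹ • ρ (y : G) (ρ z' v) = χ z' • (χ ((y : G) * z'))⁻¹ • ρ ((y : G) * z') v
      rw [map_mul, Module.End.mul_apply, smul_smul, hχmul _ y.2 z' hz']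
      congr 1
      field_simp [hχne _ y.2, hχne z' hz']
    have hcnj : ∀ x ∈ B, ∀ y ∈ Z, x⁻¹ * y * x ∈ Z := fun x hx y hy => by
      have h := hZn x⁻¹ (hnorm _ (inv_mem hx)) (by rw [inv_inv]; exact hnorm x hx) y hy
      rwa [inv_inv] at h
    have hkill : ∀ x ∈ B, ∀ y ∈ Z, χ (x⁻¹ * y * x) ≠ χ y → ∀ v ∈ W, f (ρ x v) = 0 := by
      intro x hx y hy hxy v hv
      have h1 := hfshift y hy (ρ x v)
      rw [← Module.End.mul_apply (ρ y) (ρ x), ← map_mul, show y * x = x * (x⁻¹ * y * x) by group, map_mul,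
        Module.End.mul_apply, (hWmem v).mp hv _ (hcnj x hx y hy), map_smul, map_smul, ← sub_eq_zero, ← sub_smul,
        smul_eq_zero, sub_eq_zero] at h1
      exact h1.resolve_left hxy
    obtain ⟨z₂, hz₂, hne₂⟩ : ∃ y ∈ Z, χ ((b * b)⁻¹ * y * (b * b)) ≠ χ y := by
      by_contra hc
      push Not at hc
      refine hne ?_
      have hpow : ∀ i : ℕ, ∀ y ∈ Z, χ (((b * b) ^ i)⁻¹ * y * (b * b) ^ i) = χ y := by
        intro i
        induction i with
        | zero => intro y _; simp
        | succ i ih =>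
          intro y hy
          rw [show ((b * b) ^ (i + 1))⁻¹ * y * (b * b) ^ (i + 1) =
            (b * b)⁻¹ * (((b * b) ^ i)⁻¹ * y * (b * b) ^ i) * (b * b) by rw [pow_succ]; group]
          rw [hc _ (hcnj _ (pow_mem (mul_mem hb hb) i) y hy), ih y hy]
      obtain ⟨k, hk⟩ := hB ⟨b, hb⟩
      have hbk : b ^ 3 ^ k = 1 := by simpa using congrArg Subtype.val hk
      obtain ⟨m, hm⟩ : Odd (3 ^ k) := Odd.pow (by decide)
      have hbb : (b * b) ^ (m + 1) = b := by
        rw [← pow_two, ← pow_mul, show 2 * (m + 1) = 3 ^ k + 1 by omega, pow_succ, hbk, one_mul]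
      have := hpow (m + 1) z hz
      rwa [hbb] at this
    have htriv : ∀ a ∈ A, ∀ v ∈ W, ρ a v = v := by
      intro a ha v hv
      have hfa : Commute f (ρ a) := Commute.sum_left _ _ _ fun y _ =>
        Commute.smul_left ((hZA a ha _ y.2).symm.map ρ) _
      have h1 := congrArg f (LinearMap.congr_fun (hAB a ha b hb) v)
      simp only [Module.End.mul_apply, LinearMap.sub_apply, Module.End.one_apply, map_sub, map_zero,
        LinearMap.zero_apply] at h1
      have e : ∀ u, f (ρ a u) = ρ a (f u) := fun u => LinearMap.congr_fun hfa.eq u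
      rw [e, e, e, hkill b hb z hz hne v hv, ← Module.End.mul_apply (ρ b) (ρ b), ← map_mul,
        hkill _ (mul_mem hb hb) z₂ hz₂ hne₂ v hv] at h1
      simp only [map_zero, sub_zero, zero_sub, neg_neg, sub_self] at h1
      have hfv : f v = (Nat.card Z : K) • v := by
        rw [hf, LinearMap.sum_apply, Finset.sum_congr rfl (g := fun _ => v) fun y _ => by
          rw [LinearMap.smul_apply, (hWmem v).mp hv _ y.2, smul_smul, inv_mul_cancel₀ (hχne _ y.2), one_smul],
          Finset.sum_const, Finset.card_univ, ← Nat.card_eq_fintype_card, Nat.cast_smul_eq_nsmul]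
      rw [hfv, map_smul, ← smul_sub, smul_eq_zero] at h1
      exact sub_eq_zero.mp (h1.resolve_left (hcardne Z inf_le_left))
    have hgU : ∀ v ∈ W, ρ g v = v := fun v hv => by
      have h0 : ∀ v ∈ W, ρ a₁⁻¹ v = v := htriv _ (inv_mem ha₁)
      rw [hgdef, commutatorElement_def, map_mul, map_mul, map_mul, Module.End.mul_apply, Module.End.mul_apply,
        Module.End.mul_apply, h0 _ (hWT _ (inv_mem ht₂) v hv), apply_apply_inv, htriv a₁ ha₁ v hv]
    refine hdU ?_
    have h0 : ∀ v ∈ W, ρ g⁻¹ v = v := fun v hv => by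
      conv_lhs => rw [← hgU v hv]
      exact apply_inv_apply ρ g v
    rw [hddef, commutatorElement_def, map_mul, map_mul, map_mul, Module.End.mul_apply, Module.End.mul_apply,
      Module.End.mul_apply, h0 _ (hWT _ (inv_mem ht₁) _ (hUW u₀.2)), apply_apply_inv, hgU _ (hUW u₀.2)]
  -- the pairing and its radical
  set β : G → G → K := fun x y => χ ⁅x, y⁆ with hβ
  have hβmul : ∀ x ∈ T, ∀ y ∈ T, ∀ t ∈ T, β (x * y) t = β x t * β y t := fun x hx y hy t ht => by
    show χ _ = _
    rw [hbrmul x hx y hy t ht]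
    exact hχmul _ (hbrZ x hx t ht) _ (hbrZ y hy t ht)
  have hβswap : ∀ x ∈ T, ∀ y ∈ T, β x y * β y x = 1 := fun x hx y hy => by
    show χ _ * χ _ = 1
    rw [← hχmul _ (hbrZ x hx y hy) _ (hbrZ y hy x hx), ← commutatorElement_inv y x, inv_mul_cancel, hχ1]
  let S : Subgroup T :=
    { carrier := {x | ∀ t ∈ T, β (x : G) t = 1}
      one_mem' := fun t ht => by
        show χ ⁅(1 : G), t⁆ = 1
        rw [commutatorElement_one_left, hχ1]
      mul_mem' := fun {x y} hx hy t ht => by
        rw [Subgroup.coe_mul, hβmul _ x.2 _ y.2 t ht, hx t ht, hy t ht, one_mul]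
      inv_mem' := fun {x} hx t ht => by
        have h := hβmul (x : G)⁻¹ (inv_mem x.2) _ x.2 t ht
        rw [inv_mul_cancel, show β 1 t = 1 by show χ ⁅(1 : G), t⁆ = 1; rw [commutatorElement_one_left, hχ1], hx t ht,
          mul_one] at h
        rw [Subgroup.coe_inv]; exact h.symm }
  have hSmem : ∀ x : T, x ∈ S ↔ ∀ t ∈ T, β (x : G) t = 1 := fun x => Iff.rfl
  haveI : S.Normal := ⟨fun x hx y t ht => by
    have hm : ∀ {u}, u ∈ T → β ((y : G) * u * (y : G)⁻¹) t = β u t := fun {u} hu => by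
      have h1 : β (y : G) t * β (y : G)⁻¹ t = 1 := by
        rw [← hβmul _ y.2 _ (inv_mem y.2) t ht, mul_inv_cancel]
        show χ ⁅(1 : G), t⁆ = 1
        rw [commutatorElement_one_left, hχ1]
      rw [hβmul _ (mul_mem y.2 hu) _ (inv_mem y.2) t ht, hβmul _ y.2 _ hu t ht, mul_right_comm, h1, one_mul]
    rw [Subgroup.coe_mul, Subgroup.coe_mul, Subgroup.coe_inv, hm x.2]
    exact hx t ht⟩
  -- averaging isolates a coset
  have hindep : ∀ (s : Finset (Fin 3 × Fin 3)) (c : Fin 3 × Fin 3 → K) (w : Fin 3 × Fin 3 → T) (i₀ : Fin 3 × Fin 3),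
      i₀ ∈ s → (∀ i ∈ s, i ≠ i₀ → (w i)⁻¹ * w i₀ ∉ S) → (∀ v ∈ W, ∑ i ∈ s, c i • ρ (w i : G) v = 0) → c i₀ = 0 := by
    intro s c w i₀ hi₀ hsep hzero
    haveI := Fintype.ofFinite T
    have hterm : ∀ (r : T) (i : Fin 3 × Fin 3),
        ρ (r : G) (ρ (w i : G) (ρ (r : G)⁻¹ (u₀ : V))) = β (r : G) (w i : G) • ρ (w i : G) (u₀ : V) := by
      intro r i
      have h1 : ρ (⁅(r : G), (w i : G)⁆) (ρ (w i : G) (u₀ : V)) = β (r : G) (w i : G) • ρ (w i : G) (u₀ : V) :=
        hχs _ (hbrZ _ r.2 _ (w i).2) _ (hUT _ (w i).2 _ u₀.2)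
      rw [← h1]
      simp only [← Module.End.mul_apply, ← map_mul]
      congr 2
      simp only [commutatorElement_def]; group
    have hsum : ∀ i ∈ s, ∑ r : T, β (w i₀ : G) (r : G) * β (r : G) (w i : G) =
        if i = i₀ then (Nat.card T : K) else 0 := by
      intro i hi
      have hb : ∀ r : T, β (w i₀ : G) (r : G) * β (r : G) (w i : G) = β (((w i)⁻¹ * w i₀ : T) : G) r := by
        intro r
        have h1 := hβswap _ (w i).2 _ r.2
        have h2 : β ((w i : G)⁻¹) r = β (r : G) (w i : G) := by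
          have h3 := hβmul _ (inv_mem (w i).2) _ (w i).2 _ r.2
          rw [inv_mul_cancel, show β (1 : G) r = 1 by show χ ⁅(1 : G), (r : G)⁆ = 1; rw [commutatorElement_one_left, hχ1]]
            at h3
          have hne : β (w i : G) r ≠ 0 := left_ne_zero_of_mul_eq_one h1
          exact mul_right_cancel₀ hne (h3.symm.trans (by rw [mul_comm]; exact h1.symm))
        rw [Subgroup.coe_mul, Subgroup.coe_inv, hβmul _ (inv_mem (w i).2) _ (w i₀).2 _ r.2, h2, mul_comm]
      rw [Finset.sum_congr rfl fun r _ => hb r]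
      split_ifs with hii
      · rw [hii, inv_mul_cancel]
        simp only [Subgroup.coe_one]
        rw [Finset.sum_congr rfl (g := fun _ => (1 : K)) fun r _ => by
          show χ ⁅(1 : G), (r : G)⁆ = 1
          rw [commutatorElement_one_left, hχ1], Finset.sum_const, Finset.card_univ, ← Nat.card_eq_fintype_card,
          nsmul_eq_mul, mul_one]
      · have hns : ¬ ∀ r ∈ T, β (((w i)⁻¹ * w i₀ : T) : G) r = 1 := fun h => hsep i hi hii h
        push Not at hns
        obtain ⟨r₀, hr₀, hr₁⟩ := hns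
        set x : T := (w i)⁻¹ * w i₀
        have hmul : ∀ r : T, β (x : G) (r₀ * r) = β (x : G) r₀ * β (x : G) r := by
          intro r
          have e0 := hβswap _ x.2 _ (mul_mem hr₀ r.2)
          have e1 := hβswap _ x.2 _ hr₀
          have e2 := hβswap _ x.2 _ r.2
          rw [hβmul _ hr₀ _ r.2 _ x.2] at e0
          calc β (x : G) (r₀ * r) = β (x : G) (r₀ * r) * ((β (x : G) r₀ * β r₀ x) * (β (x : G) r * β (r : G) x)) := by
                rw [e1, e2, one_mul, mul_one]
            _ = (β (x : G) (r₀ * r) * (β r₀ x * β (r : G) x)) * (β (x : G) r₀ * β (x : G) r) := by ring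
            _ = _ := by rw [e0, one_mul]
        have h1 : β (x : G) r₀ * ∑ r : T, β (x : G) r = ∑ r : T, β (x : G) r := by
          rw [Finset.mul_sum]
          exact Fintype.sum_equiv (Equiv.mulLeft (⟨r₀, hr₀⟩ : T)) _ _ fun r => (hmul r).symm
        by_contra hne
        exact hr₁ ((mul_eq_right₀ hne).mp h1)
    have h0 : ∑ r : T, β (w i₀ : G) (r : G) • ρ (r : G) (∑ i ∈ s, c i • ρ (w i : G) (ρ (r : G)⁻¹ (u₀ : V))) = 0 := by
      refine Finset.sum_eq_zero fun r _ => ?_
      rw [hzero _ (hWT _ (inv_mem r.2) _ (hUW u₀.2)), map_zero, smul_zero]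
    simp only [map_sum, map_smul, hterm, Finset.smul_sum, smul_smul] at h0
    rw [Finset.sum_comm] at h0
    rw [Finset.sum_congr rfl (g := fun i => (c i * if i = i₀ then (Nat.card T : K) else 0) • ρ (w i : G) (u₀ : V))
      fun i hi => by
        rw [← hsum i hi, Finset.mul_sum, Finset.sum_smul]
        refine Finset.sum_congr rfl fun r _ => ?_
        congr 1
        ring] at h0
    rw [Finset.sum_eq_single i₀ (fun i _ hi => by rw [if_neg hi, mul_zero, zero_smul]) (fun h => absurd hi₀ h),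
      if_pos rfl, smul_eq_zero] at h0
    rcases h0 with h0 | h0
    · exact (mul_eq_zero.mp h0).resolve_right (hcardne T le_rfl)
    · have := congrArg (ρ (w i₀ : G)⁻¹) h0
      rw [apply_inv_apply, map_zero] at this
      exact absurd (Subtype.ext this) hu₀
  -- the quotient
  letI : CommGroup (T ⧸ S) :=
    { (inferInstance : Group (T ⧸ S)) with
      mul_comm := fun x y => by
        obtain ⟨x, rfl⟩ := QuotientGroup.mk_surjective x
        obtain ⟨y, rfl⟩ := QuotientGroup.mk_surjective y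
        show ((x * y : T) : T ⧸ S) = ((y * x : T) : T ⧸ S)
        refine QuotientGroup.eq.mpr fun t ht => ?_
        have hF' : (((x * y)⁻¹ * (y * x) : T) : G) ∈ F := by
          have := hbrF _ (inv_mem y.2) _ (inv_mem x.2)
          convert this using 1
          simp only [Subgroup.coe_mul, Subgroup.coe_inv, commutatorElement_def]; group
        show χ _ = 1
        rw [commutatorElement_eq_one_iff_commute.mpr (hFc _ hF' t ht), hχ1] }
  have hsq : ∀ x : T ⧸ S, x * x = 1 := fun x => by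
    obtain ⟨x, rfl⟩ := QuotientGroup.mk_surjective x
    rw [← QuotientGroup.mk_mul, QuotientGroup.eq_one_iff]
    intro t ht
    show χ _ = 1
    rw [Subgroup.coe_mul, ← pow_two, commutatorElement_eq_one_iff_commute.mpr (hFc _ (hsqF _ x.2) t ht), hχ1]
  let cjT : B → (T →* T) := fun b =>
    MonoidHom.mk' (fun t => ⟨(b : G) * t * (b : G)⁻¹, hnorm b b.2 t t.2⟩) fun s t => Subtype.ext (by
      show (b : G) * ((s : G) * (t : G)) * (b : G)⁻¹ = (b : G) * s * (b : G)⁻¹ * ((b : G) * t * (b : G)⁻¹)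
      group)
  have hcjS : ∀ b : B, S ≤ S.comap (cjT b) := fun b x hx t ht => by
    have ht' : (b : G)⁻¹ * t * (b : G) ∈ T := by simpa using hnorm _ (inv_mem b.2) t ht
    have hz := hbrZ _ x.2 _ ht'
    show χ ⁅(b : G) * x * (b : G)⁻¹, t⁆ = 1
    rw [show ⁅(b : G) * x * (b : G)⁻¹, t⁆ = (b : G)⁻¹⁻¹ * ⁅(x : G), (b : G)⁻¹ * t * (b : G)⁆ * (b : G)⁻¹ by
      simp only [commutatorElement_def]; group]
    rw [hfixχ _ (inv_mem b.2) _ hz]
    exact hx _ ht'
  let act : B → (T ⧸ S →* T ⧸ S) := fun b => QuotientGroup.map S S (cjT b) (hcjS b)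
  have hact1 : ∀ u, act 1 u = u := fun u => by
    obtain ⟨t, rfl⟩ := QuotientGroup.mk_surjective u
    refine congrArg QuotientGroup.mk (Subtype.ext ?_)
    show ((1 : B) : G) * t * ((1 : B) : G)⁻¹ = t
    simp
  have hactm : ∀ b c u, act (b * c) u = act b (act c u) := fun b c u => by
    obtain ⟨t, rfl⟩ := QuotientGroup.mk_surjective u
    refine congrArg QuotientGroup.mk (Subtype.ext ?_)
    show ((b : G) * c) * t * ((b : G) * c)⁻¹ = (b : G) * ((c : G) * t * (c : G)⁻¹) * (b : G)⁻¹
    group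
  let μ : B → T ⧸ S → T ⧸ S := fun b u => u * act b u
  have hμmul : ∀ b u u', μ b (u * u') = μ b u * μ b u' := fun b u u' => by
    show u * u' * act b (u * u') = _
    rw [map_mul]; exact mul_mul_mul_comm u u' _ _
  -- orbits of moved elements coincide
  have hkey : ∀ c : B, (c : G) ∈ A → ∀ u v, μ c u ≠ 1 → μ c v ≠ 1 →
      μ c v = μ c u ∨ μ c v = act c (μ c u) ∨ μ c v = act c (act c (μ c u)) := by
    intro c hc u v hu hv
    have hc3 : ∀ x, act c (act c (act c x)) = x := fun x => by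
      rw [← hactm, ← hactm, show c * c * c = 1 from Subtype.ext (by
        show (c : G) * c * c = 1
        rw [← pow_two, ← pow_succ]; exact hA3 _ hc), hact1]
    obtain ⟨u, rfl⟩ := QuotientGroup.mk_surjective u
    obtain ⟨v, rfl⟩ := QuotientGroup.mk_surjective v
    by_contra hne
    push Not at hne
    obtain ⟨hn0, hn1, hn2⟩ := hne
    let uo : Fin 3 → T := ![u, cjT c u, cjT c (cjT c u)]
    let vo : Fin 3 → T := ![v, cjT c v, cjT c (cjT c v)]
    -- separation
    have hsep : ∀ i ∈ (Finset.univ : Finset (Fin 3 × Fin 3)), i ≠ (0, 0) →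
        (uo i.1 * vo i.2)⁻¹ * (uo 0 * vo 0) ∉ S := by
      intro i _ hi hm
      have he : ((uo i.1 * vo i.2 : T) : T ⧸ S) = ((uo 0 * vo 0 : T) : T ⧸ S) := QuotientGroup.eq.mpr hm
      rw [QuotientGroup.mk_mul, QuotientGroup.mk_mul] at he
      set x : T ⧸ S := (u : T ⧸ S)
      set y : T ⧸ S := (v : T ⧸ S)
      set g := act c
      have hx : ∀ {z}, g z = z → μ c z = 1 := fun {z} hz => by show z * g z = 1; rw [hz, hsq]
      have hsplit : ∀ {p q r s : T ⧸ S}, p * q = r * s → r * p = s * q := fun {p q r s} h => by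
        calc r * p = r * p * (q * q) := by rw [hsq, mul_one]
          _ = r * (p * q) * q := by simp only [mul_assoc]
          _ = r * r * (s * q) := by rw [h]; simp only [mul_assoc]
          _ = s * q := by rw [hsq, one_mul]
      have hu2 : x * g (g x) = g (g (x * g x)) := by rw [map_mul, map_mul, hc3, mul_comm]
      have hv2 : y * g (g y) = g (g (y * g y)) := by rw [map_mul, map_mul, hc3, mul_comm]
      have hgg : ∀ z, g (g z) = z → g z = z := fun z h => by
        conv_rhs => rw [← hc3 z]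
        rw [h]
      obtain ⟨i, j⟩ := i
      fin_cases i <;> fin_cases j
      · exact hi rfl
      · exact hv (hx (mul_left_cancel he))
      · exact hv (hx (hgg _ (mul_left_cancel he)))
      · exact hu (hx (mul_right_cancel he))
      · exact hn0 (hsplit he).symm
      · have h := hsplit (show g x * g (g y) = x * y from he)
        rw [hv2] at h
        exact hn1 (by rw [← hc3 (μ c (y))]; exact congrArg g h.symm)
      · exact hu (hx (hgg _ (mul_right_cancel he)))
      · have h := hsplit (show g (g x) * g y = x * y from he)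
        rw [hu2] at h
        exact hn2 h.symm
      · have h := hsplit (show g (g x) * g (g y) = x * y from he)
        rw [hu2, hv2] at h
        exact hn0 (by rw [← hc3 (μ c y), ← hc3 (μ c x)]; exact congrArg g h.symm)
    -- the product of the orbit sums vanishes
    set N := ρ (c : G) - 1 with hN
    have hNN : N * N = 0 := hAA _ hc _ hc
    have h3 : (3 : End K V) = 0 := by exact_mod_cast CharP.cast_eq_zero (End K V) 3
    have hρc : ρ (c : G) = 1 + N := by rw [hN, add_sub_cancel]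
    have hρci : ρ (c : G)⁻¹ = 1 - N := by
      have h1 : (1 - N) * ρ (c : G) = 1 := by rw [hρc]; noncomm_ring; rw [hNN]; simp
      calc ρ (c : G)⁻¹ = (1 - N) * ρ (c : G) * ρ (c : G)⁻¹ := by rw [h1, one_mul]
        _ = 1 - N := by rw [mul_assoc, ← map_mul, mul_inv_cancel, map_one, mul_one]
    have horb : ∀ r : T, ρ (r : G) + ρ ((cjT c r : T) : G) + ρ ((cjT c (cjT c r) : T) : G) = N * ρ (r : G) * N := by
      intro r
      rw [← orbit_sum h3 hNN]
      show ρ (r : G) + ρ ((c : G) * r * (c : G)⁻¹) + ρ ((c : G) * ((c : G) * r * (c : G)⁻¹) * (c : G)⁻¹) = _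
      simp only [map_mul, hρc, hρci, mul_assoc]
    have hprod : ∑ i : Fin 3 × Fin 3, ρ ((uo i.1 * vo i.2 : T) : G) = 0 := by
      rw [Fintype.sum_prod_type]
      simp only [Subgroup.coe_mul, map_mul]
      rw [← Finset.sum_mul_sum, Fin.sum_univ_three, Fin.sum_univ_three]
      show (ρ (u : G) + ρ ((cjT c u : T) : G) + ρ ((cjT c (cjT c u) : T) : G)) *
        (ρ (v : G) + ρ ((cjT c v : T) : G) + ρ ((cjT c (cjT c v) : T) : G)) = 0
      rw [horb, horb]
      calc N * ρ (u : G) * N * (N * ρ (v : G) * N) = N * ρ (u : G) * (N * N) * ρ (v : G) * N := by simp only [mul_assoc]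
        _ = 0 := by rw [hNN]; simp
    refine one_ne_zero (hindep Finset.univ (fun _ => (1 : K)) (fun i => uo i.1 * vo i.2) (0, 0) (Finset.mem_univ _)
      (fun i hi hne => hsep i hi hne) fun w _ => ?_)
    have := LinearMap.congr_fun hprod w
    simpa [LinearMap.sum_apply] using this
  -- fixed point free on the moved part
  have hfpf : ∀ c : B, (c : G) ∈ A → ∀ w, act c (μ c w) = μ c w → μ c w = 1 := by
    intro c hc w hw
    have h2 : act c (act c w) = w := by
      have h1 : act c w * act c (act c w) = act c w * w := by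
        rw [← map_mul, mul_comm _ w]; exact hw
      exact mul_left_cancel h1
    have hc3 : act c (act c (act c w)) = w := by
      rw [← hactm, ← hactm, show c * c * c = 1 from Subtype.ext (by
        show (c : G) * c * c = 1
        rw [← pow_two, ← pow_succ]; exact hA3 _ hc), hact1]
    rw [h2] at hc3
    show w * act c w = 1
    rw [hc3, hsq]
  have hcommAct : ∀ c e : B, (c : G) ∈ A → (e : G) ∈ A → ∀ x, act c (act e x) = act e (act c x) := fun c e hc he x => by
    rw [← hactm, ← hactm, show c * e = e * c from Subtype.ext (hAc _ hc _ he).eq]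
  set α : B := ⟨a₁, hAleB ha₁⟩ with hα
  have hαA : (α : G) ∈ A := ha₁
  obtain ⟨u₁, hu₁⟩ : ∃ u, μ α u ≠ 1 := by
    refine ⟨((⟨t₂, ht₂⟩ : T) : T ⧸ S), fun h => hdU ?_⟩
    have h1 : ((⟨t₂, ht₂⟩ : T) * cjT α ⟨t₂, ht₂⟩ : T) ∈ S := (QuotientGroup.eq_one_iff _).mp h
    have h2 : (cjT α ⟨t₂, ht₂⟩ * (⟨t₂, ht₂⟩ : T)⁻¹ : T) ∈ S := by
      rw [← QuotientGroup.eq_one_iff, QuotientGroup.mk_mul, QuotientGroup.mk_inv]
      have h3 : ((⟨t₂, ht₂⟩ : T) : T ⧸ S) * ((cjT α ⟨t₂, ht₂⟩ : T) : T ⧸ S) = 1 := h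
      rw [← mul_left_cancel (h3.trans (hsq _).symm)]
      exact mul_inv_cancel _
    have h4 : χ ⁅g, t₁⁆ = 1 := h2 t₁ ht₁
    rw [hddef, hχs _ (hbrZ g hgT t₁ ht₁) _ u₀.2, h4, one_smul]
  set x₁ := μ α u₁ with hx₁
  let inX : T ⧸ S → Prop := fun y => y = x₁ ∨ y = act α x₁ ∨ y = act α (act α x₁)
  have hαX : ∀ y, inX y → inX (act α y) := by
    rintro y (rfl | rfl | rfl)
    · exact Or.inr (Or.inl rfl)
    · exact Or.inr (Or.inr rfl)
    · left
      rw [← hactm, ← hactm, show α * α * α = 1 from Subtype.ext (by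
        show (α : G) * α * α = 1
        rw [← pow_two, ← pow_succ]; exact hA3 _ hαA), hact1]
  have hrange : ∀ u, μ α u ≠ 1 → inX (μ α u) := fun u hu => hkey α hαA u₁ u hu₁ hu
  have hμc : ∀ c e : B, (c : G) ∈ A → (e : G) ∈ A → ∀ w, act c (μ e w) = μ e (act c w) := fun c e hc he w => by
    show act c (w * act e w) = act c w * act e (act c w)
    rw [map_mul, hcommAct c e hc he]
  -- the other moved elements have the same moved part
  have hsame : ∀ c : B, (c : G) ∈ A → ∀ u, μ c u ≠ 1 → inX (μ c u) := by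
    intro c hc u hu
    by_contra hout
    set y := μ c u with hy
    have hyX : ∀ z, μ c z ≠ 1 → ¬ inX (μ c z) := by
      intro z hz hin
      have hx : ∀ k, inX k → ∀ l, l = k ∨ l = act c k ∨ l = act c (act c k) →
          (∀ e, inX e → inX (act c e)) → inX l := by
        rintro k hk l (rfl | rfl | rfl) h
        · exact hk
        · exact h _ hk
        · exact h _ (h _ hk)
      refine hout (hx _ hin y (hkey c hc z u hz hu) fun e he => ?_)
      have hne : act c e ≠ 1 := fun h1 => by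
        have : e = 1 := (map_eq_one_iff (act c) (fun p q hpq => by
          have := congrArg (act c⁻¹) hpq
          rwa [← hactm, ← hactm, inv_mul_cancel, hact1, hact1] at this)).mp h1
        rcases he with rfl | rfl | rfl
        · exact hu₁ this
        · exact hu₁ ((map_eq_one_iff (act α) (fun p q hpq => by
            have := congrArg (act α⁻¹) hpq
            rwa [← hactm, ← hactm, inv_mul_cancel, hact1, hact1] at this)).mp this)
        · have hinj : Function.Injective (act α) := fun p q hpq => by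
            have := congrArg (act α⁻¹) hpq
            rwa [← hactm, ← hactm, inv_mul_cancel, hact1, hact1] at this
          exact hu₁ ((map_eq_one_iff _ hinj).mp ((map_eq_one_iff _ hinj).mp this))
      rcases he with rfl | rfl | rfl
      · rw [hμc c α hc hαA] at hne ⊢; exact hrange _ hne
      · rw [hcommAct c α hc hαA, hμc c α hc hαA, hμc α α hαA hαA] at hne ⊢; exact hrange _ hne
      · rw [hcommAct c α hc hαA, hcommAct c α hc hαA, hμc c α hc hαA, hμc α α hαA hαA, hμc α α hαA hαA] at hne ⊢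
        exact hrange _ hne
    -- `c` fixes `x₁` and `α` fixes `y`
    have hcx : act c x₁ = x₁ := by
      by_contra hne
      have h1 : μ c x₁ ≠ 1 := fun h => hne (mul_left_cancel (h.trans (hsq x₁).symm))
      refine hyX x₁ h1 ?_
      have he : μ c x₁ = μ α (μ c u₁) := by
        show μ c (μ α u₁) = _
        show μ α u₁ * act c (μ α u₁) = μ α (μ c u₁)
        rw [hμc c α hc hαA, ← hμmul]
      rw [he] at h1 ⊢
      exact hrange _ h1
    have hay : act α y = y := by
      by_contra hne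
      have h1 : μ α y ≠ 1 := fun h => hne (mul_left_cancel (h.trans (hsq y).symm))
      have he : μ α y = μ c (μ α u) := by
        show μ c u * act α (μ c u) = μ c (μ α u)
        rw [hμc α c hαA hc, ← hμmul]
      have h2 := hrange _ h1
      rw [he] at h1 h2
      exact hyX _ h1 h2
    set e : B := α * c with he
    have heA : (e : G) ∈ A := mul_mem hαA hc
    have hex : μ e x₁ = μ α x₁ := by show x₁ * act (α * c) x₁ = x₁ * act α x₁; rw [hactm, hcx]
    have hey : μ e y = μ c y := by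
      show y * act (α * c) y = y * act c y
      rw [hactm, hcommAct α c hαA hc, hay]
    have hne1 : μ α x₁ ≠ 1 := fun h => hu₁ (hfpf α hαA u₁ (mul_left_cancel (h.trans (hsq x₁).symm)))
    have hne2 : μ c y ≠ 1 := fun h => hu (hfpf c hc u (mul_left_cancel (h.trans (hsq y).symm)))
    have hin : inX (μ c y) := by
      have h := hkey e heA x₁ y (hex ▸ hne1) (hey ▸ hne2)
      have hX' : ∀ k, inX k → inX (act e k) := fun k hk => by
        have hck : act c k = k := by
          rcases hk with rfl | rfl | rfl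
          · exact hcx
          · rw [hcommAct c α hc hαA, hcx]
          · rw [hcommAct c α hc hαA, hcommAct c α hc hαA, hcx]
        rw [hactm, hck]
        exact hαX k hk
      have hk0 : inX (μ e x₁) := hex ▸ hrange _ hne1
      rw [hey] at h
      rcases h with h | h | h <;> rw [h]
      · exact hk0
      · exact hX' _ hk0
      · exact hX' _ (hX' _ hk0)
    exact hyX y hne2 hin
  -- `B` permutes three points
  have hinj : ∀ b : B, Function.Injective (act b) := fun b p q hpq => by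
    have := congrArg (act b⁻¹) hpq
    rwa [← hactm, ← hactm, inv_mul_cancel, hact1, hact1] at this
  have hBX : ∀ b : B, ∀ y, inX y → inX (act b y) := by
    intro b y hy
    obtain ⟨w, rfl⟩ : ∃ w, μ α w = y := by
      rcases hy with rfl | rfl | rfl
      · exact ⟨u₁, rfl⟩
      · exact ⟨act α u₁, (hμc α α hαA hαA u₁).symm⟩
      · exact ⟨act α (act α u₁), by rw [← hμc α α hαA hαA, ← hμc α α hαA hαA]⟩
    have hw : μ α w ≠ 1 := by
      rcases hy with h | h | h <;> rw [h]
      · exact hu₁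
      · exact fun h1 => hu₁ ((map_eq_one_iff _ (hinj α)).mp h1)
      · exact fun h1 => hu₁ ((map_eq_one_iff _ (hinj α)).mp ((map_eq_one_iff _ (hinj α)).mp h1))
    have he : act b (μ α w) = μ (b * α * b⁻¹) (act b w) := by
      show act b (w * act α w) = act b w * act (b * α * b⁻¹) (act b w)
      rw [map_mul, ← hactm, ← hactm, inv_mul_cancel_right]
    rw [he]
    exact hsame _ (hAnB b b.2 _ hαA) _ (fun h => hw ((map_eq_one_iff _ (hinj b)).mp (he.trans h)))
  let Y := {y : T ⧸ S // inX y}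
  let toPerm : B → Equiv.Perm Y := fun b => Equiv.ofBijective (fun y => (⟨act b y.1, hBX b y.1 y.2⟩ : Y))
    (Finite.injective_iff_bijective.mp fun p q hpq => Subtype.ext (hinj b (congrArg Subtype.val hpq)))
  let ψ : B →* Equiv.Perm Y := MonoidHom.mk' toPerm fun b c => Equiv.ext fun y => Subtype.ext (hactm b c y.1)
  have hYcard : Nat.card Y ≤ 3 := by
    let e : Fin 3 → Y := ![⟨x₁, Or.inl rfl⟩, ⟨act α x₁, Or.inr (Or.inl rfl)⟩, ⟨act α (act α x₁), Or.inr (Or.inr rfl)⟩]
    have hsurj : Function.Surjective e := by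
      rintro ⟨y, h | h | h⟩
      · exact ⟨0, Subtype.ext h.symm⟩
      · exact ⟨1, Subtype.ext h.symm⟩
      · exact ⟨2, Subtype.ext h.symm⟩
    simpa using Nat.card_le_card_of_surjective e hsurj
  have hψc : ∀ b c, Commute (ψ b) (ψ c) := by
    intro b c
    have h3 : IsPGroup 3 ψ.range := hB.of_surjective ψ.rangeRestrict ψ.rangeRestrict_surjective
    have hd : Nat.card ψ.range ∣ 6 := by
      refine (card_subgroup_dvd_card _).trans ?_
      rw [Nat.card_perm]
      exact Nat.factorial_dvd_factorial hYcard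
    obtain ⟨k, hk⟩ := h3.exists_card_eq
    have hk1 : k ≤ 1 := by
      by_contra hlt
      have h := (pow_dvd_pow 3 (show 2 ≤ k by omega)).trans (hk ▸ hd)
      norm_num at h
    haveI : IsCyclic ψ.range := by
      rcases Nat.le_one_iff_eq_zero_or_eq_one.mp hk1 with rfl | rfl
      · haveI : Subsingleton ψ.range := (Nat.card_eq_one_iff_unique.mp (by rw [hk, pow_zero])).1
        infer_instance
      · exact isCyclic_of_prime_card (p := 3) (by rw [hk, pow_one])
    letI := IsCyclic.commGroup (α := ψ.range)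
    exact congrArg Subtype.val (mul_comm (⟨ψ b, b, rfl⟩ : ψ.range) ⟨ψ c, c, rfl⟩)
  have hαker : α ∈ ψ.ker := by
    have hle : (commutator B).map B.subtype ≤ ψ.ker.map B.subtype := map_mono (by
      rw [commutator_def, commutator_le]
      intro b _ c _
      rw [MonoidHom.mem_ker, map_commutatorElement, commutatorElement_eq_one_iff_commute]
      exact hψc b c)
    rw [map_subtype_commutator] at hle
    obtain ⟨α', hα', he⟩ := hle hαA
    rwa [show α = α' from Subtype.ext he.symm]
  exact hu₁ (hfpf α hαA u₁ (congrArg Subtype.val (congrArg (fun π : Equiv.Perm Y => π ⟨x₁, Or.inl rfl⟩) (MonoidHom.mem_ker.mp hαker))))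

end Cfsg.Agent.PLocal.DerivedLength
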